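import Cfsg.Agent.Lib.Helper4.F24M.U3.Cert
set_option autoImplicit false
set_option maxRecDepth 1000000
set_option Elab.async false
namespace Cfsg.Agent.Lib.Helper4.F24M.U3
open Cfsg.Agent.Lib.Helper4.Sparse
theorem tr_245761 : chkTreeRange 12 piT parT 4 245761 8192 = true := by decide +kernel
theorem tr_253953 : chkTreeRange 12 piT parT 4 253953 8192 = true := by decide +kernel
theorem tr_262145 : chkTreeRange 12 piT parT 4 262145 8192 = true := by decide +kernel
theorem tr_270337 : chkTreeRange 12 piT parT 4 270337 8192 = true := by decide +kernel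
theorem tr_278529 : chkTreeRange 12 piT parT 4 278529 8192 = true := by decide +kernel
theorem tr_286721 : chkTreeRange 12 piT parT 4 286721 8192 = true := by decide +kernel
theorem tr_294913 : chkTreeRange 12 piT parT 4 294913 8192 = true := by decide +kernel
theorem tr_303105 : chkTreeRange 12 piT parT 4 303105 3831 = true := by decide +kernel
theorem treeP2 (j : ℕ) (h1 : 245761 ≤ j) (h2 : j < 306936) : chkTreeAt 12 piT parT 4 j = true := by
  rcases Nat.lt_or_ge j 253953 with g0 | g0
  · exact chkTreeRange_spec 12 piT parT 4 245761 8192 tr_245761 j (by omega) (by omega)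
  rcases Nat.lt_or_ge j 262145 with g1 | g1
  · exact chkTreeRange_spec 12 piT parT 4 253953 8192 tr_253953 j (by omega) (by omega)
  rcases Nat.lt_or_ge j 270337 with g2 | g2
  · exact chkTreeRange_spec 12 piT parT 4 262145 8192 tr_262145 j (by omega) (by omega)
  rcases Nat.lt_or_ge j 278529 with g3 | g3
  · exact chkTreeRange_spec 12 piT parT 4 270337 8192 tr_270337 j (by omega) (by omega)
  rcases Nat.lt_or_ge j 286721 with g4 | g4
  · exact chkTreeRange_spec 12 piT parT 4 278529 8192 tr_278529 j (by omega) (by omega)
  rcases Nat.lt_or_ge j 294913 with g5 | g5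
  · exact chkTreeRange_spec 12 piT parT 4 286721 8192 tr_286721 j (by omega) (by omega)
  rcases Nat.lt_or_ge j 303105 with g6 | g6
  · exact chkTreeRange_spec 12 piT parT 4 294913 8192 tr_294913 j (by omega) (by omega)
  exact chkTreeRange_spec 12 piT parT 4 303105 3831 tr_303105 j (by omega) (by omega)
end Cfsg.Agent.Lib.Helper4.F24M.U3
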