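import Cfsg.Agent.Lib.Helper4.F24M.U3.Cert
set_option autoImplicit false
set_option maxRecDepth 1000000
set_option Elab.async false
namespace Cfsg.Agent.Lib.Helper4.F24M.U3
open Cfsg.Agent.Lib.Helper4.Sparse
theorem ck_192 : chkURange D C 786432 4096 = true := by decide +kernel
theorem ck_193 : chkURange D C 790528 4096 = true := by decide +kernel
theorem ck_194 : chkURange D C 794624 4096 = true := by decide +kernel
theorem ck_195 : chkURange D C 798720 4096 = true := by decide +kernel
theorem ck_196 : chkURange D C 802816 4096 = true := by decide +kernel
theorem ck_197 : chkURange D C 806912 4096 = true := by decide +kernel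
theorem ck_198 : chkURange D C 811008 4096 = true := by decide +kernel
theorem ck_199 : chkURange D C 815104 4096 = true := by decide +kernel
theorem ck_200 : chkURange D C 819200 4096 = true := by decide +kernel
theorem ck_201 : chkURange D C 823296 4096 = true := by decide +kernel
theorem ck_202 : chkURange D C 827392 4096 = true := by decide +kernel
theorem ck_203 : chkURange D C 831488 4096 = true := by decide +kernel
theorem chkU_16 (b : ℕ) (h1 : 786432 ≤ b) (h2 : b < 835584) : chkU D C b = true := by
  rcases Nat.lt_or_ge b 790528 with g0 | g0
  · exact chkURange_spec D C 786432 4096 ck_192 b (by omega) (by omega)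
  rcases Nat.lt_or_ge b 794624 with g1 | g1
  · exact chkURange_spec D C 790528 4096 ck_193 b (by omega) (by omega)
  rcases Nat.lt_or_ge b 798720 with g2 | g2
  · exact chkURange_spec D C 794624 4096 ck_194 b (by omega) (by omega)
  rcases Nat.lt_or_ge b 802816 with g3 | g3
  · exact chkURange_spec D C 798720 4096 ck_195 b (by omega) (by omega)
  rcases Nat.lt_or_ge b 806912 with g4 | g4
  · exact chkURange_spec D C 802816 4096 ck_196 b (by omega) (by omega)
  rcases Nat.lt_or_ge b 811008 with g5 | g5
  · exact chkURange_spec D C 806912 4096 ck_197 b (by omega) (by omega)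
  rcases Nat.lt_or_ge b 815104 with g6 | g6
  · exact chkURange_spec D C 811008 4096 ck_198 b (by omega) (by omega)
  rcases Nat.lt_or_ge b 819200 with g7 | g7
  · exact chkURange_spec D C 815104 4096 ck_199 b (by omega) (by omega)
  rcases Nat.lt_or_ge b 823296 with g8 | g8
  · exact chkURange_spec D C 819200 4096 ck_200 b (by omega) (by omega)
  rcases Nat.lt_or_ge b 827392 with g9 | g9
  · exact chkURange_spec D C 823296 4096 ck_201 b (by omega) (by omega)
  rcases Nat.lt_or_ge b 831488 with g10 | g10
  · exact chkURange_spec D C 827392 4096 ck_202 b (by omega) (by omega)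
  exact chkURange_spec D C 831488 4096 ck_203 b (by omega) (by omega)
end Cfsg.Agent.Lib.Helper4.F24M.U3
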