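import Cfsg.Agent.Lib.Helper4.F24M.U3.Cert
set_option autoImplicit false
set_option maxRecDepth 1000000
set_option Elab.async false
namespace Cfsg.Agent.Lib.Helper4.F24M.U3
open Cfsg.Agent.Lib.Helper4.Sparse
theorem ck_264 : chkURange D C 1081344 4096 = true := by decide +kernel
theorem ck_265 : chkURange D C 1085440 4096 = true := by decide +kernel
theorem ck_266 : chkURange D C 1089536 4096 = true := by decide +kernel
theorem ck_267 : chkURange D C 1093632 4096 = true := by decide +kernel
theorem ck_268 : chkURange D C 1097728 4096 = true := by decide +kernel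
theorem ck_269 : chkURange D C 1101824 4096 = true := by decide +kernel
theorem ck_270 : chkURange D C 1105920 4096 = true := by decide +kernel
theorem ck_271 : chkURange D C 1110016 4096 = true := by decide +kernel
theorem ck_272 : chkURange D C 1114112 4096 = true := by decide +kernel
theorem ck_273 : chkURange D C 1118208 4096 = true := by decide +kernel
theorem ck_274 : chkURange D C 1122304 4096 = true := by decide +kernel
theorem ck_275 : chkURange D C 1126400 4096 = true := by decide +kernel
theorem chkU_22 (b : ℕ) (h1 : 1081344 ≤ b) (h2 : b < 1130496) : chkU D C b = true := by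
  rcases Nat.lt_or_ge b 1085440 with g0 | g0
  · exact chkURange_spec D C 1081344 4096 ck_264 b (by omega) (by omega)
  rcases Nat.lt_or_ge b 1089536 with g1 | g1
  · exact chkURange_spec D C 1085440 4096 ck_265 b (by omega) (by omega)
  rcases Nat.lt_or_ge b 1093632 with g2 | g2
  · exact chkURange_spec D C 1089536 4096 ck_266 b (by omega) (by omega)
  rcases Nat.lt_or_ge b 1097728 with g3 | g3
  · exact chkURange_spec D C 1093632 4096 ck_267 b (by omega) (by omega)
  rcases Nat.lt_or_ge b 1101824 with g4 | g4
  · exact chkURange_spec D C 1097728 4096 ck_268 b (by omega) (by omega)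
  rcases Nat.lt_or_ge b 1105920 with g5 | g5
  · exact chkURange_spec D C 1101824 4096 ck_269 b (by omega) (by omega)
  rcases Nat.lt_or_ge b 1110016 with g6 | g6
  · exact chkURange_spec D C 1105920 4096 ck_270 b (by omega) (by omega)
  rcases Nat.lt_or_ge b 1114112 with g7 | g7
  · exact chkURange_spec D C 1110016 4096 ck_271 b (by omega) (by omega)
  rcases Nat.lt_or_ge b 1118208 with g8 | g8
  · exact chkURange_spec D C 1114112 4096 ck_272 b (by omega) (by omega)
  rcases Nat.lt_or_ge b 1122304 with g9 | g9
  · exact chkURange_spec D C 1118208 4096 ck_273 b (by omega) (by omega)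
  rcases Nat.lt_or_ge b 1126400 with g10 | g10
  · exact chkURange_spec D C 1122304 4096 ck_274 b (by omega) (by omega)
  exact chkURange_spec D C 1126400 4096 ck_275 b (by omega) (by omega)
end Cfsg.Agent.Lib.Helper4.F24M.U3
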