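import Cfsg.Agent.Lib.Helper4.F24M.U3.Cert
set_option autoImplicit false
set_option maxRecDepth 1000000
set_option Elab.async false
namespace Cfsg.Agent.Lib.Helper4.F24M.U3
open Cfsg.Agent.Lib.Helper4.Sparse
theorem ck_300 : chkURange D C 1228800 4096 = true := by decide +kernel
theorem ck_301 : chkURange D C 1232896 4096 = true := by decide +kernel
theorem ck_302 : chkURange D C 1236992 4096 = true := by decide +kernel
theorem ck_303 : chkURange D C 1241088 4096 = true := by decide +kernel
theorem ck_304 : chkURange D C 1245184 4096 = true := by decide +kernel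
theorem ck_305 : chkURange D C 1249280 4096 = true := by decide +kernel
theorem ck_306 : chkURange D C 1253376 4096 = true := by decide +kernel
theorem ck_307 : chkURange D C 1257472 4096 = true := by decide +kernel
theorem ck_308 : chkURange D C 1261568 4096 = true := by decide +kernel
theorem ck_309 : chkURange D C 1265664 4096 = true := by decide +kernel
theorem ck_310 : chkURange D C 1269760 4096 = true := by decide +kernel
theorem ck_311 : chkURange D C 1273856 4096 = true := by decide +kernel
theorem chkU_25 (b : ℕ) (h1 : 1228800 ≤ b) (h2 : b < 1277952) : chkU D C b = true := by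
  rcases Nat.lt_or_ge b 1232896 with g0 | g0
  · exact chkURange_spec D C 1228800 4096 ck_300 b (by omega) (by omega)
  rcases Nat.lt_or_ge b 1236992 with g1 | g1
  · exact chkURange_spec D C 1232896 4096 ck_301 b (by omega) (by omega)
  rcases Nat.lt_or_ge b 1241088 with g2 | g2
  · exact chkURange_spec D C 1236992 4096 ck_302 b (by omega) (by omega)
  rcases Nat.lt_or_ge b 1245184 with g3 | g3
  · exact chkURange_spec D C 1241088 4096 ck_303 b (by omega) (by omega)
  rcases Nat.lt_or_ge b 1249280 with g4 | g4
  · exact chkURange_spec D C 1245184 4096 ck_304 b (by omega) (by omega)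
  rcases Nat.lt_or_ge b 1253376 with g5 | g5
  · exact chkURange_spec D C 1249280 4096 ck_305 b (by omega) (by omega)
  rcases Nat.lt_or_ge b 1257472 with g6 | g6
  · exact chkURange_spec D C 1253376 4096 ck_306 b (by omega) (by omega)
  rcases Nat.lt_or_ge b 1261568 with g7 | g7
  · exact chkURange_spec D C 1257472 4096 ck_307 b (by omega) (by omega)
  rcases Nat.lt_or_ge b 1265664 with g8 | g8
  · exact chkURange_spec D C 1261568 4096 ck_308 b (by omega) (by omega)
  rcases Nat.lt_or_ge b 1269760 with g9 | g9
  · exact chkURange_spec D C 1265664 4096 ck_309 b (by omega) (by omega)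
  rcases Nat.lt_or_ge b 1273856 with g10 | g10
  · exact chkURange_spec D C 1269760 4096 ck_310 b (by omega) (by omega)
  exact chkURange_spec D C 1273856 4096 ck_311 b (by omega) (by omega)
end Cfsg.Agent.Lib.Helper4.F24M.U3
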