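import Cfsg.Agent.Lib.Helper4.F24M.U3.Cert
set_option autoImplicit false
set_option maxRecDepth 1000000
set_option Elab.async false
namespace Cfsg.Agent.Lib.Helper4.F24M.U3
open Cfsg.Agent.Lib.Helper4.Sparse
theorem ck_336 : chkURange D C 1376256 4096 = true := by decide +kernel
theorem ck_337 : chkURange D C 1380352 4096 = true := by decide +kernel
theorem ck_338 : chkURange D C 1384448 4096 = true := by decide +kernel
theorem ck_339 : chkURange D C 1388544 4096 = true := by decide +kernel
theorem ck_340 : chkURange D C 1392640 4096 = true := by decide +kernel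
theorem ck_341 : chkURange D C 1396736 4096 = true := by decide +kernel
theorem ck_342 : chkURange D C 1400832 4096 = true := by decide +kernel
theorem ck_343 : chkURange D C 1404928 4096 = true := by decide +kernel
theorem ck_344 : chkURange D C 1409024 4096 = true := by decide +kernel
theorem ck_345 : chkURange D C 1413120 4096 = true := by decide +kernel
theorem ck_346 : chkURange D C 1417216 4096 = true := by decide +kernel
theorem ck_347 : chkURange D C 1421312 4096 = true := by decide +kernel
theorem chkU_28 (b : ℕ) (h1 : 1376256 ≤ b) (h2 : b < 1425408) : chkU D C b = true := by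
  rcases Nat.lt_or_ge b 1380352 with g0 | g0
  · exact chkURange_spec D C 1376256 4096 ck_336 b (by omega) (by omega)
  rcases Nat.lt_or_ge b 1384448 with g1 | g1
  · exact chkURange_spec D C 1380352 4096 ck_337 b (by omega) (by omega)
  rcases Nat.lt_or_ge b 1388544 with g2 | g2
  · exact chkURange_spec D C 1384448 4096 ck_338 b (by omega) (by omega)
  rcases Nat.lt_or_ge b 1392640 with g3 | g3
  · exact chkURange_spec D C 1388544 4096 ck_339 b (by omega) (by omega)
  rcases Nat.lt_or_ge b 1396736 with g4 | g4
  · exact chkURange_spec D C 1392640 4096 ck_340 b (by omega) (by omega)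
  rcases Nat.lt_or_ge b 1400832 with g5 | g5
  · exact chkURange_spec D C 1396736 4096 ck_341 b (by omega) (by omega)
  rcases Nat.lt_or_ge b 1404928 with g6 | g6
  · exact chkURange_spec D C 1400832 4096 ck_342 b (by omega) (by omega)
  rcases Nat.lt_or_ge b 1409024 with g7 | g7
  · exact chkURange_spec D C 1404928 4096 ck_343 b (by omega) (by omega)
  rcases Nat.lt_or_ge b 1413120 with g8 | g8
  · exact chkURange_spec D C 1409024 4096 ck_344 b (by omega) (by omega)
  rcases Nat.lt_or_ge b 1417216 with g9 | g9
  · exact chkURange_spec D C 1413120 4096 ck_345 b (by omega) (by omega)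
  rcases Nat.lt_or_ge b 1421312 with g10 | g10
  · exact chkURange_spec D C 1417216 4096 ck_346 b (by omega) (by omega)
  exact chkURange_spec D C 1421312 4096 ck_347 b (by omega) (by omega)
end Cfsg.Agent.Lib.Helper4.F24M.U3
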