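import Cfsg.Agent.Lib.Helper4.F24M.U3.Cert
set_option autoImplicit false
set_option maxRecDepth 1000000
set_option Elab.async false
namespace Cfsg.Agent.Lib.Helper4.F24M.U3
open Cfsg.Agent.Lib.Helper4.Sparse
theorem ck_348 : chkURange D C 1425408 4096 = true := by decide +kernel
theorem ck_349 : chkURange D C 1429504 4096 = true := by decide +kernel
theorem ck_350 : chkURange D C 1433600 4096 = true := by decide +kernel
theorem ck_351 : chkURange D C 1437696 4096 = true := by decide +kernel
theorem ck_352 : chkURange D C 1441792 4096 = true := by decide +kernel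
theorem ck_353 : chkURange D C 1445888 4096 = true := by decide +kernel
theorem ck_354 : chkURange D C 1449984 4096 = true := by decide +kernel
theorem ck_355 : chkURange D C 1454080 4096 = true := by decide +kernel
theorem ck_356 : chkURange D C 1458176 4096 = true := by decide +kernel
theorem ck_357 : chkURange D C 1462272 4096 = true := by decide +kernel
theorem ck_358 : chkURange D C 1466368 4096 = true := by decide +kernel
theorem ck_359 : chkURange D C 1470464 4096 = true := by decide +kernel
theorem chkU_29 (b : ℕ) (h1 : 1425408 ≤ b) (h2 : b < 1474560) : chkU D C b = true := by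
  rcases Nat.lt_or_ge b 1429504 with g0 | g0
  · exact chkURange_spec D C 1425408 4096 ck_348 b (by omega) (by omega)
  rcases Nat.lt_or_ge b 1433600 with g1 | g1
  · exact chkURange_spec D C 1429504 4096 ck_349 b (by omega) (by omega)
  rcases Nat.lt_or_ge b 1437696 with g2 | g2
  · exact chkURange_spec D C 1433600 4096 ck_350 b (by omega) (by omega)
  rcases Nat.lt_or_ge b 1441792 with g3 | g3
  · exact chkURange_spec D C 1437696 4096 ck_351 b (by omega) (by omega)
  rcases Nat.lt_or_ge b 1445888 with g4 | g4
  · exact chkURange_spec D C 1441792 4096 ck_352 b (by omega) (by omega)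
  rcases Nat.lt_or_ge b 1449984 with g5 | g5
  · exact chkURange_spec D C 1445888 4096 ck_353 b (by omega) (by omega)
  rcases Nat.lt_or_ge b 1454080 with g6 | g6
  · exact chkURange_spec D C 1449984 4096 ck_354 b (by omega) (by omega)
  rcases Nat.lt_or_ge b 1458176 with g7 | g7
  · exact chkURange_spec D C 1454080 4096 ck_355 b (by omega) (by omega)
  rcases Nat.lt_or_ge b 1462272 with g8 | g8
  · exact chkURange_spec D C 1458176 4096 ck_356 b (by omega) (by omega)
  rcases Nat.lt_or_ge b 1466368 with g9 | g9
  · exact chkURange_spec D C 1462272 4096 ck_357 b (by omega) (by omega)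
  rcases Nat.lt_or_ge b 1470464 with g10 | g10
  · exact chkURange_spec D C 1466368 4096 ck_358 b (by omega) (by omega)
  exact chkURange_spec D C 1470464 4096 ck_359 b (by omega) (by omega)
end Cfsg.Agent.Lib.Helper4.F24M.U3
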