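import Cfsg.Agent.Lib.Helper4.F24M.U3.Cert
set_option autoImplicit false
set_option maxRecDepth 1000000
set_option Elab.async false
namespace Cfsg.Agent.Lib.Helper4.F24M.U3
open Cfsg.Agent.Lib.Helper4.Sparse
theorem ck_384 : chkURange D C 1572864 4096 = true := by decide +kernel
theorem ck_385 : chkURange D C 1576960 4096 = true := by decide +kernel
theorem ck_386 : chkURange D C 1581056 4096 = true := by decide +kernel
theorem ck_387 : chkURange D C 1585152 4096 = true := by decide +kernel
theorem ck_388 : chkURange D C 1589248 4096 = true := by decide +kernel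
theorem ck_389 : chkURange D C 1593344 4096 = true := by decide +kernel
theorem ck_390 : chkURange D C 1597440 4096 = true := by decide +kernel
theorem ck_391 : chkURange D C 1601536 4096 = true := by decide +kernel
theorem ck_392 : chkURange D C 1605632 4096 = true := by decide +kernel
theorem ck_393 : chkURange D C 1609728 4096 = true := by decide +kernel
theorem ck_394 : chkURange D C 1613824 4096 = true := by decide +kernel
theorem ck_395 : chkURange D C 1617920 4096 = true := by decide +kernel
theorem chkU_32 (b : ℕ) (h1 : 1572864 ≤ b) (h2 : b < 1622016) : chkU D C b = true := by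
  rcases Nat.lt_or_ge b 1576960 with g0 | g0
  · exact chkURange_spec D C 1572864 4096 ck_384 b (by omega) (by omega)
  rcases Nat.lt_or_ge b 1581056 with g1 | g1
  · exact chkURange_spec D C 1576960 4096 ck_385 b (by omega) (by omega)
  rcases Nat.lt_or_ge b 1585152 with g2 | g2
  · exact chkURange_spec D C 1581056 4096 ck_386 b (by omega) (by omega)
  rcases Nat.lt_or_ge b 1589248 with g3 | g3
  · exact chkURange_spec D C 1585152 4096 ck_387 b (by omega) (by omega)
  rcases Nat.lt_or_ge b 1593344 with g4 | g4
  · exact chkURange_spec D C 1589248 4096 ck_388 b (by omega) (by omega)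
  rcases Nat.lt_or_ge b 1597440 with g5 | g5
  · exact chkURange_spec D C 1593344 4096 ck_389 b (by omega) (by omega)
  rcases Nat.lt_or_ge b 1601536 with g6 | g6
  · exact chkURange_spec D C 1597440 4096 ck_390 b (by omega) (by omega)
  rcases Nat.lt_or_ge b 1605632 with g7 | g7
  · exact chkURange_spec D C 1601536 4096 ck_391 b (by omega) (by omega)
  rcases Nat.lt_or_ge b 1609728 with g8 | g8
  · exact chkURange_spec D C 1605632 4096 ck_392 b (by omega) (by omega)
  rcases Nat.lt_or_ge b 1613824 with g9 | g9
  · exact chkURange_spec D C 1609728 4096 ck_393 b (by omega) (by omega)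
  rcases Nat.lt_or_ge b 1617920 with g10 | g10
  · exact chkURange_spec D C 1613824 4096 ck_394 b (by omega) (by omega)
  exact chkURange_spec D C 1617920 4096 ck_395 b (by omega) (by omega)
end Cfsg.Agent.Lib.Helper4.F24M.U3
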