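import Cfsg.Agent.Lib.Helper4.F24M.U3.Cert
set_option autoImplicit false
set_option maxRecDepth 1000000
set_option Elab.async false
namespace Cfsg.Agent.Lib.Helper4.F24M.U3
open Cfsg.Agent.Lib.Helper4.Sparse
theorem ck_468 : chkURange D C 1916928 4096 = true := by decide +kernel
theorem ck_469 : chkURange D C 1921024 4096 = true := by decide +kernel
theorem ck_470 : chkURange D C 1925120 4096 = true := by decide +kernel
theorem ck_471 : chkURange D C 1929216 4096 = true := by decide +kernel
theorem ck_472 : chkURange D C 1933312 4096 = true := by decide +kernel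
theorem ck_473 : chkURange D C 1937408 4096 = true := by decide +kernel
theorem ck_474 : chkURange D C 1941504 4096 = true := by decide +kernel
theorem ck_475 : chkURange D C 1945600 4096 = true := by decide +kernel
theorem ck_476 : chkURange D C 1949696 4096 = true := by decide +kernel
theorem ck_477 : chkURange D C 1953792 4096 = true := by decide +kernel
theorem ck_478 : chkURange D C 1957888 4096 = true := by decide +kernel
theorem ck_479 : chkURange D C 1961984 4096 = true := by decide +kernel
theorem chkU_39 (b : ℕ) (h1 : 1916928 ≤ b) (h2 : b < 1966080) : chkU D C b = true := by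
  rcases Nat.lt_or_ge b 1921024 with g0 | g0
  · exact chkURange_spec D C 1916928 4096 ck_468 b (by omega) (by omega)
  rcases Nat.lt_or_ge b 1925120 with g1 | g1
  · exact chkURange_spec D C 1921024 4096 ck_469 b (by omega) (by omega)
  rcases Nat.lt_or_ge b 1929216 with g2 | g2
  · exact chkURange_spec D C 1925120 4096 ck_470 b (by omega) (by omega)
  rcases Nat.lt_or_ge b 1933312 with g3 | g3
  · exact chkURange_spec D C 1929216 4096 ck_471 b (by omega) (by omega)
  rcases Nat.lt_or_ge b 1937408 with g4 | g4
  · exact chkURange_spec D C 1933312 4096 ck_472 b (by omega) (by omega)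
  rcases Nat.lt_or_ge b 1941504 with g5 | g5
  · exact chkURange_spec D C 1937408 4096 ck_473 b (by omega) (by omega)
  rcases Nat.lt_or_ge b 1945600 with g6 | g6
  · exact chkURange_spec D C 1941504 4096 ck_474 b (by omega) (by omega)
  rcases Nat.lt_or_ge b 1949696 with g7 | g7
  · exact chkURange_spec D C 1945600 4096 ck_475 b (by omega) (by omega)
  rcases Nat.lt_or_ge b 1953792 with g8 | g8
  · exact chkURange_spec D C 1949696 4096 ck_476 b (by omega) (by omega)
  rcases Nat.lt_or_ge b 1957888 with g9 | g9
  · exact chkURange_spec D C 1953792 4096 ck_477 b (by omega) (by omega)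
  rcases Nat.lt_or_ge b 1961984 with g10 | g10
  · exact chkURange_spec D C 1957888 4096 ck_478 b (by omega) (by omega)
  exact chkURange_spec D C 1961984 4096 ck_479 b (by omega) (by omega)
end Cfsg.Agent.Lib.Helper4.F24M.U3
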