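import Cfsg.Agent.Lib.Helper4.F24M.U3.Cert
set_option autoImplicit false
set_option maxRecDepth 1000000
set_option Elab.async false
namespace Cfsg.Agent.Lib.Helper4.F24M.U3
open Cfsg.Agent.Lib.Helper4.Sparse
theorem ck_504 : chkURange D C 2064384 4096 = true := by decide +kernel
theorem ck_505 : chkURange D C 2068480 4096 = true := by decide +kernel
theorem ck_506 : chkURange D C 2072576 4096 = true := by decide +kernel
theorem ck_507 : chkURange D C 2076672 4096 = true := by decide +kernel
theorem ck_508 : chkURange D C 2080768 4096 = true := by decide +kernel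
theorem ck_509 : chkURange D C 2084864 4096 = true := by decide +kernel
theorem ck_510 : chkURange D C 2088960 4096 = true := by decide +kernel
theorem ck_511 : chkURange D C 2093056 4096 = true := by decide +kernel
theorem ck_512 : chkURange D C 2097152 4096 = true := by decide +kernel
theorem ck_513 : chkURange D C 2101248 4096 = true := by decide +kernel
theorem ck_514 : chkURange D C 2105344 4096 = true := by decide +kernel
theorem ck_515 : chkURange D C 2109440 4096 = true := by decide +kernel
theorem chkU_42 (b : ℕ) (h1 : 2064384 ≤ b) (h2 : b < 2113536) : chkU D C b = true := by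
  rcases Nat.lt_or_ge b 2068480 with g0 | g0
  · exact chkURange_spec D C 2064384 4096 ck_504 b (by omega) (by omega)
  rcases Nat.lt_or_ge b 2072576 with g1 | g1
  · exact chkURange_spec D C 2068480 4096 ck_505 b (by omega) (by omega)
  rcases Nat.lt_or_ge b 2076672 with g2 | g2
  · exact chkURange_spec D C 2072576 4096 ck_506 b (by omega) (by omega)
  rcases Nat.lt_or_ge b 2080768 with g3 | g3
  · exact chkURange_spec D C 2076672 4096 ck_507 b (by omega) (by omega)
  rcases Nat.lt_or_ge b 2084864 with g4 | g4
  · exact chkURange_spec D C 2080768 4096 ck_508 b (by omega) (by omega)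
  rcases Nat.lt_or_ge b 2088960 with g5 | g5
  · exact chkURange_spec D C 2084864 4096 ck_509 b (by omega) (by omega)
  rcases Nat.lt_or_ge b 2093056 with g6 | g6
  · exact chkURange_spec D C 2088960 4096 ck_510 b (by omega) (by omega)
  rcases Nat.lt_or_ge b 2097152 with g7 | g7
  · exact chkURange_spec D C 2093056 4096 ck_511 b (by omega) (by omega)
  rcases Nat.lt_or_ge b 2101248 with g8 | g8
  · exact chkURange_spec D C 2097152 4096 ck_512 b (by omega) (by omega)
  rcases Nat.lt_or_ge b 2105344 with g9 | g9
  · exact chkURange_spec D C 2101248 4096 ck_513 b (by omega) (by omega)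
  rcases Nat.lt_or_ge b 2109440 with g10 | g10
  · exact chkURange_spec D C 2105344 4096 ck_514 b (by omega) (by omega)
  exact chkURange_spec D C 2109440 4096 ck_515 b (by omega) (by omega)
end Cfsg.Agent.Lib.Helper4.F24M.U3
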