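import Cfsg.Agent.Lib.Helper4.F24M.U3.Cert
set_option autoImplicit false
set_option maxRecDepth 1000000
set_option Elab.async false
namespace Cfsg.Agent.Lib.Helper4.F24M.U3
open Cfsg.Agent.Lib.Helper4.Sparse
theorem ck_588 : chkURange D C 2408448 4096 = true := by decide +kernel
theorem ck_589 : chkURange D C 2412544 4096 = true := by decide +kernel
theorem ck_590 : chkURange D C 2416640 4096 = true := by decide +kernel
theorem ck_591 : chkURange D C 2420736 4096 = true := by decide +kernel
theorem ck_592 : chkURange D C 2424832 4096 = true := by decide +kernel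
theorem ck_593 : chkURange D C 2428928 4096 = true := by decide +kernel
theorem ck_594 : chkURange D C 2433024 4096 = true := by decide +kernel
theorem ck_595 : chkURange D C 2437120 4096 = true := by decide +kernel
theorem ck_596 : chkURange D C 2441216 4096 = true := by decide +kernel
theorem ck_597 : chkURange D C 2445312 4096 = true := by decide +kernel
theorem ck_598 : chkURange D C 2449408 4096 = true := by decide +kernel
theorem ck_599 : chkURange D C 2453504 4096 = true := by decide +kernel
theorem chkU_49 (b : ℕ) (h1 : 2408448 ≤ b) (h2 : b < 2457600) : chkU D C b = true := by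
  rcases Nat.lt_or_ge b 2412544 with g0 | g0
  · exact chkURange_spec D C 2408448 4096 ck_588 b (by omega) (by omega)
  rcases Nat.lt_or_ge b 2416640 with g1 | g1
  · exact chkURange_spec D C 2412544 4096 ck_589 b (by omega) (by omega)
  rcases Nat.lt_or_ge b 2420736 with g2 | g2
  · exact chkURange_spec D C 2416640 4096 ck_590 b (by omega) (by omega)
  rcases Nat.lt_or_ge b 2424832 with g3 | g3
  · exact chkURange_spec D C 2420736 4096 ck_591 b (by omega) (by omega)
  rcases Nat.lt_or_ge b 2428928 with g4 | g4
  · exact chkURange_spec D C 2424832 4096 ck_592 b (by omega) (by omega)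
  rcases Nat.lt_or_ge b 2433024 with g5 | g5
  · exact chkURange_spec D C 2428928 4096 ck_593 b (by omega) (by omega)
  rcases Nat.lt_or_ge b 2437120 with g6 | g6
  · exact chkURange_spec D C 2433024 4096 ck_594 b (by omega) (by omega)
  rcases Nat.lt_or_ge b 2441216 with g7 | g7
  · exact chkURange_spec D C 2437120 4096 ck_595 b (by omega) (by omega)
  rcases Nat.lt_or_ge b 2445312 with g8 | g8
  · exact chkURange_spec D C 2441216 4096 ck_596 b (by omega) (by omega)
  rcases Nat.lt_or_ge b 2449408 with g9 | g9
  · exact chkURange_spec D C 2445312 4096 ck_597 b (by omega) (by omega)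
  rcases Nat.lt_or_ge b 2453504 with g10 | g10
  · exact chkURange_spec D C 2449408 4096 ck_598 b (by omega) (by omega)
  exact chkURange_spec D C 2453504 4096 ck_599 b (by omega) (by omega)
end Cfsg.Agent.Lib.Helper4.F24M.U3
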