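import Cfsg.Agent.Lib.Helper4.F24M.U3.Cert
set_option autoImplicit false
set_option maxRecDepth 1000000
set_option Elab.async false
namespace Cfsg.Agent.Lib.Helper4.F24M.U3
open Cfsg.Agent.Lib.Helper4.Sparse
theorem ck_600 : chkURange D C 2457600 4096 = true := by decide +kernel
theorem ck_601 : chkURange D C 2461696 4096 = true := by decide +kernel
theorem ck_602 : chkURange D C 2465792 4096 = true := by decide +kernel
theorem ck_603 : chkURange D C 2469888 4096 = true := by decide +kernel
theorem ck_604 : chkURange D C 2473984 4096 = true := by decide +kernel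
theorem ck_605 : chkURange D C 2478080 4096 = true := by decide +kernel
theorem ck_606 : chkURange D C 2482176 4096 = true := by decide +kernel
theorem ck_607 : chkURange D C 2486272 4096 = true := by decide +kernel
theorem ck_608 : chkURange D C 2490368 4096 = true := by decide +kernel
theorem ck_609 : chkURange D C 2494464 4096 = true := by decide +kernel
theorem ck_610 : chkURange D C 2498560 4096 = true := by decide +kernel
theorem ck_611 : chkURange D C 2502656 4096 = true := by decide +kernel
theorem chkU_50 (b : ℕ) (h1 : 2457600 ≤ b) (h2 : b < 2506752) : chkU D C b = true := by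
  rcases Nat.lt_or_ge b 2461696 with g0 | g0
  · exact chkURange_spec D C 2457600 4096 ck_600 b (by omega) (by omega)
  rcases Nat.lt_or_ge b 2465792 with g1 | g1
  · exact chkURange_spec D C 2461696 4096 ck_601 b (by omega) (by omega)
  rcases Nat.lt_or_ge b 2469888 with g2 | g2
  · exact chkURange_spec D C 2465792 4096 ck_602 b (by omega) (by omega)
  rcases Nat.lt_or_ge b 2473984 with g3 | g3
  · exact chkURange_spec D C 2469888 4096 ck_603 b (by omega) (by omega)
  rcases Nat.lt_or_ge b 2478080 with g4 | g4
  · exact chkURange_spec D C 2473984 4096 ck_604 b (by omega) (by omega)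
  rcases Nat.lt_or_ge b 2482176 with g5 | g5
  · exact chkURange_spec D C 2478080 4096 ck_605 b (by omega) (by omega)
  rcases Nat.lt_or_ge b 2486272 with g6 | g6
  · exact chkURange_spec D C 2482176 4096 ck_606 b (by omega) (by omega)
  rcases Nat.lt_or_ge b 2490368 with g7 | g7
  · exact chkURange_spec D C 2486272 4096 ck_607 b (by omega) (by omega)
  rcases Nat.lt_or_ge b 2494464 with g8 | g8
  · exact chkURange_spec D C 2490368 4096 ck_608 b (by omega) (by omega)
  rcases Nat.lt_or_ge b 2498560 with g9 | g9
  · exact chkURange_spec D C 2494464 4096 ck_609 b (by omega) (by omega)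
  rcases Nat.lt_or_ge b 2502656 with g10 | g10
  · exact chkURange_spec D C 2498560 4096 ck_610 b (by omega) (by omega)
  exact chkURange_spec D C 2502656 4096 ck_611 b (by omega) (by omega)
end Cfsg.Agent.Lib.Helper4.F24M.U3
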