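import Cfsg.Agent.Lib.Helper4.F24M.U3.Cert
set_option autoImplicit false
set_option maxRecDepth 1000000
set_option Elab.async false
namespace Cfsg.Agent.Lib.Helper4.F24M.U3
open Cfsg.Agent.Lib.Helper4.Sparse
theorem ck_660 : chkURange D C 2703360 4096 = true := by decide +kernel
theorem ck_661 : chkURange D C 2707456 4096 = true := by decide +kernel
theorem ck_662 : chkURange D C 2711552 4096 = true := by decide +kernel
theorem ck_663 : chkURange D C 2715648 4096 = true := by decide +kernel
theorem ck_664 : chkURange D C 2719744 4096 = true := by decide +kernel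
theorem ck_665 : chkURange D C 2723840 4096 = true := by decide +kernel
theorem ck_666 : chkURange D C 2727936 4096 = true := by decide +kernel
theorem ck_667 : chkURange D C 2732032 4096 = true := by decide +kernel
theorem ck_668 : chkURange D C 2736128 4096 = true := by decide +kernel
theorem ck_669 : chkURange D C 2740224 4096 = true := by decide +kernel
theorem ck_670 : chkURange D C 2744320 4096 = true := by decide +kernel
theorem ck_671 : chkURange D C 2748416 4096 = true := by decide +kernel
theorem chkU_55 (b : ℕ) (h1 : 2703360 ≤ b) (h2 : b < 2752512) : chkU D C b = true := by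
  rcases Nat.lt_or_ge b 2707456 with g0 | g0
  · exact chkURange_spec D C 2703360 4096 ck_660 b (by omega) (by omega)
  rcases Nat.lt_or_ge b 2711552 with g1 | g1
  · exact chkURange_spec D C 2707456 4096 ck_661 b (by omega) (by omega)
  rcases Nat.lt_or_ge b 2715648 with g2 | g2
  · exact chkURange_spec D C 2711552 4096 ck_662 b (by omega) (by omega)
  rcases Nat.lt_or_ge b 2719744 with g3 | g3
  · exact chkURange_spec D C 2715648 4096 ck_663 b (by omega) (by omega)
  rcases Nat.lt_or_ge b 2723840 with g4 | g4
  · exact chkURange_spec D C 2719744 4096 ck_664 b (by omega) (by omega)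
  rcases Nat.lt_or_ge b 2727936 with g5 | g5
  · exact chkURange_spec D C 2723840 4096 ck_665 b (by omega) (by omega)
  rcases Nat.lt_or_ge b 2732032 with g6 | g6
  · exact chkURange_spec D C 2727936 4096 ck_666 b (by omega) (by omega)
  rcases Nat.lt_or_ge b 2736128 with g7 | g7
  · exact chkURange_spec D C 2732032 4096 ck_667 b (by omega) (by omega)
  rcases Nat.lt_or_ge b 2740224 with g8 | g8
  · exact chkURange_spec D C 2736128 4096 ck_668 b (by omega) (by omega)
  rcases Nat.lt_or_ge b 2744320 with g9 | g9
  · exact chkURange_spec D C 2740224 4096 ck_669 b (by omega) (by omega)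
  rcases Nat.lt_or_ge b 2748416 with g10 | g10
  · exact chkURange_spec D C 2744320 4096 ck_670 b (by omega) (by omega)
  exact chkURange_spec D C 2748416 4096 ck_671 b (by omega) (by omega)
end Cfsg.Agent.Lib.Helper4.F24M.U3
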