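import Cfsg.Agent.Lib.Helper4.F24M.U3.Cert
set_option autoImplicit false
set_option maxRecDepth 1000000
set_option Elab.async false
namespace Cfsg.Agent.Lib.Helper4.F24M.U3
open Cfsg.Agent.Lib.Helper4.Sparse
theorem ck_684 : chkURange D C 2801664 4096 = true := by decide +kernel
theorem ck_685 : chkURange D C 2805760 4096 = true := by decide +kernel
theorem ck_686 : chkURange D C 2809856 4096 = true := by decide +kernel
theorem ck_687 : chkURange D C 2813952 4096 = true := by decide +kernel
theorem ck_688 : chkURange D C 2818048 4096 = true := by decide +kernel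
theorem ck_689 : chkURange D C 2822144 4096 = true := by decide +kernel
theorem ck_690 : chkURange D C 2826240 4096 = true := by decide +kernel
theorem ck_691 : chkURange D C 2830336 4096 = true := by decide +kernel
theorem ck_692 : chkURange D C 2834432 4096 = true := by decide +kernel
theorem ck_693 : chkURange D C 2838528 4096 = true := by decide +kernel
theorem ck_694 : chkURange D C 2842624 4096 = true := by decide +kernel
theorem ck_695 : chkURange D C 2846720 4096 = true := by decide +kernel
theorem chkU_57 (b : ℕ) (h1 : 2801664 ≤ b) (h2 : b < 2850816) : chkU D C b = true := by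
  rcases Nat.lt_or_ge b 2805760 with g0 | g0
  · exact chkURange_spec D C 2801664 4096 ck_684 b (by omega) (by omega)
  rcases Nat.lt_or_ge b 2809856 with g1 | g1
  · exact chkURange_spec D C 2805760 4096 ck_685 b (by omega) (by omega)
  rcases Nat.lt_or_ge b 2813952 with g2 | g2
  · exact chkURange_spec D C 2809856 4096 ck_686 b (by omega) (by omega)
  rcases Nat.lt_or_ge b 2818048 with g3 | g3
  · exact chkURange_spec D C 2813952 4096 ck_687 b (by omega) (by omega)
  rcases Nat.lt_or_ge b 2822144 with g4 | g4
  · exact chkURange_spec D C 2818048 4096 ck_688 b (by omega) (by omega)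
  rcases Nat.lt_or_ge b 2826240 with g5 | g5
  · exact chkURange_spec D C 2822144 4096 ck_689 b (by omega) (by omega)
  rcases Nat.lt_or_ge b 2830336 with g6 | g6
  · exact chkURange_spec D C 2826240 4096 ck_690 b (by omega) (by omega)
  rcases Nat.lt_or_ge b 2834432 with g7 | g7
  · exact chkURange_spec D C 2830336 4096 ck_691 b (by omega) (by omega)
  rcases Nat.lt_or_ge b 2838528 with g8 | g8
  · exact chkURange_spec D C 2834432 4096 ck_692 b (by omega) (by omega)
  rcases Nat.lt_or_ge b 2842624 with g9 | g9
  · exact chkURange_spec D C 2838528 4096 ck_693 b (by omega) (by omega)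
  rcases Nat.lt_or_ge b 2846720 with g10 | g10
  · exact chkURange_spec D C 2842624 4096 ck_694 b (by omega) (by omega)
  exact chkURange_spec D C 2846720 4096 ck_695 b (by omega) (by omega)
end Cfsg.Agent.Lib.Helper4.F24M.U3
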