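import Cfsg.Agent.Lib.Helper4.F24M.U3.Cert
set_option autoImplicit false
set_option maxRecDepth 1000000
set_option Elab.async false
namespace Cfsg.Agent.Lib.Helper4.F24M.U3
open Cfsg.Agent.Lib.Helper4.Sparse
theorem ck_720 : chkURange D C 2949120 4096 = true := by decide +kernel
theorem ck_721 : chkURange D C 2953216 4096 = true := by decide +kernel
theorem ck_722 : chkURange D C 2957312 4096 = true := by decide +kernel
theorem ck_723 : chkURange D C 2961408 4096 = true := by decide +kernel
theorem ck_724 : chkURange D C 2965504 4096 = true := by decide +kernel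
theorem ck_725 : chkURange D C 2969600 4096 = true := by decide +kernel
theorem ck_726 : chkURange D C 2973696 4096 = true := by decide +kernel
theorem ck_727 : chkURange D C 2977792 4096 = true := by decide +kernel
theorem ck_728 : chkURange D C 2981888 4096 = true := by decide +kernel
theorem ck_729 : chkURange D C 2985984 4096 = true := by decide +kernel
theorem ck_730 : chkURange D C 2990080 4096 = true := by decide +kernel
theorem ck_731 : chkURange D C 2994176 4096 = true := by decide +kernel
theorem chkU_60 (b : ℕ) (h1 : 2949120 ≤ b) (h2 : b < 2998272) : chkU D C b = true := by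
  rcases Nat.lt_or_ge b 2953216 with g0 | g0
  · exact chkURange_spec D C 2949120 4096 ck_720 b (by omega) (by omega)
  rcases Nat.lt_or_ge b 2957312 with g1 | g1
  · exact chkURange_spec D C 2953216 4096 ck_721 b (by omega) (by omega)
  rcases Nat.lt_or_ge b 2961408 with g2 | g2
  · exact chkURange_spec D C 2957312 4096 ck_722 b (by omega) (by omega)
  rcases Nat.lt_or_ge b 2965504 with g3 | g3
  · exact chkURange_spec D C 2961408 4096 ck_723 b (by omega) (by omega)
  rcases Nat.lt_or_ge b 2969600 with g4 | g4
  · exact chkURange_spec D C 2965504 4096 ck_724 b (by omega) (by omega)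
  rcases Nat.lt_or_ge b 2973696 with g5 | g5
  · exact chkURange_spec D C 2969600 4096 ck_725 b (by omega) (by omega)
  rcases Nat.lt_or_ge b 2977792 with g6 | g6
  · exact chkURange_spec D C 2973696 4096 ck_726 b (by omega) (by omega)
  rcases Nat.lt_or_ge b 2981888 with g7 | g7
  · exact chkURange_spec D C 2977792 4096 ck_727 b (by omega) (by omega)
  rcases Nat.lt_or_ge b 2985984 with g8 | g8
  · exact chkURange_spec D C 2981888 4096 ck_728 b (by omega) (by omega)
  rcases Nat.lt_or_ge b 2990080 with g9 | g9
  · exact chkURange_spec D C 2985984 4096 ck_729 b (by omega) (by omega)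
  rcases Nat.lt_or_ge b 2994176 with g10 | g10
  · exact chkURange_spec D C 2990080 4096 ck_730 b (by omega) (by omega)
  exact chkURange_spec D C 2994176 4096 ck_731 b (by omega) (by omega)
end Cfsg.Agent.Lib.Helper4.F24M.U3
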