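import Cfsg.Agent.Lib.Helper4.F24M.U3.Cert
set_option autoImplicit false
set_option maxRecDepth 1000000
set_option Elab.async false
namespace Cfsg.Agent.Lib.Helper4.F24M.U3
open Cfsg.Agent.Lib.Helper4.Sparse
theorem ck_756 : chkURange D C 3096576 4096 = true := by decide +kernel
theorem ck_757 : chkURange D C 3100672 4096 = true := by decide +kernel
theorem ck_758 : chkURange D C 3104768 4096 = true := by decide +kernel
theorem ck_759 : chkURange D C 3108864 4096 = true := by decide +kernel
theorem ck_760 : chkURange D C 3112960 4096 = true := by decide +kernel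
theorem ck_761 : chkURange D C 3117056 4096 = true := by decide +kernel
theorem ck_762 : chkURange D C 3121152 4096 = true := by decide +kernel
theorem ck_763 : chkURange D C 3125248 4096 = true := by decide +kernel
theorem ck_764 : chkURange D C 3129344 4096 = true := by decide +kernel
theorem ck_765 : chkURange D C 3133440 4096 = true := by decide +kernel
theorem ck_766 : chkURange D C 3137536 4096 = true := by decide +kernel
theorem ck_767 : chkURange D C 3141632 4096 = true := by decide +kernel
theorem chkU_63 (b : ℕ) (h1 : 3096576 ≤ b) (h2 : b < 3145728) : chkU D C b = true := by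
  rcases Nat.lt_or_ge b 3100672 with g0 | g0
  · exact chkURange_spec D C 3096576 4096 ck_756 b (by omega) (by omega)
  rcases Nat.lt_or_ge b 3104768 with g1 | g1
  · exact chkURange_spec D C 3100672 4096 ck_757 b (by omega) (by omega)
  rcases Nat.lt_or_ge b 3108864 with g2 | g2
  · exact chkURange_spec D C 3104768 4096 ck_758 b (by omega) (by omega)
  rcases Nat.lt_or_ge b 3112960 with g3 | g3
  · exact chkURange_spec D C 3108864 4096 ck_759 b (by omega) (by omega)
  rcases Nat.lt_or_ge b 3117056 with g4 | g4
  · exact chkURange_spec D C 3112960 4096 ck_760 b (by omega) (by omega)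
  rcases Nat.lt_or_ge b 3121152 with g5 | g5
  · exact chkURange_spec D C 3117056 4096 ck_761 b (by omega) (by omega)
  rcases Nat.lt_or_ge b 3125248 with g6 | g6
  · exact chkURange_spec D C 3121152 4096 ck_762 b (by omega) (by omega)
  rcases Nat.lt_or_ge b 3129344 with g7 | g7
  · exact chkURange_spec D C 3125248 4096 ck_763 b (by omega) (by omega)
  rcases Nat.lt_or_ge b 3133440 with g8 | g8
  · exact chkURange_spec D C 3129344 4096 ck_764 b (by omega) (by omega)
  rcases Nat.lt_or_ge b 3137536 with g9 | g9
  · exact chkURange_spec D C 3133440 4096 ck_765 b (by omega) (by omega)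
  rcases Nat.lt_or_ge b 3141632 with g10 | g10
  · exact chkURange_spec D C 3137536 4096 ck_766 b (by omega) (by omega)
  exact chkURange_spec D C 3141632 4096 ck_767 b (by omega) (by omega)
end Cfsg.Agent.Lib.Helper4.F24M.U3
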