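import Cfsg.Agent.Lib.Helper4.F24M.U3.Cert
set_option autoImplicit false
set_option maxRecDepth 1000000
set_option Elab.async false
namespace Cfsg.Agent.Lib.Helper4.F24M.U3
open Cfsg.Agent.Lib.Helper4.Sparse
theorem ck_840 : chkURange D C 3440640 4096 = true := by decide +kernel
theorem ck_841 : chkURange D C 3444736 4096 = true := by decide +kernel
theorem ck_842 : chkURange D C 3448832 4096 = true := by decide +kernel
theorem ck_843 : chkURange D C 3452928 4096 = true := by decide +kernel
theorem ck_844 : chkURange D C 3457024 4096 = true := by decide +kernel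
theorem ck_845 : chkURange D C 3461120 4096 = true := by decide +kernel
theorem ck_846 : chkURange D C 3465216 4096 = true := by decide +kernel
theorem ck_847 : chkURange D C 3469312 4096 = true := by decide +kernel
theorem ck_848 : chkURange D C 3473408 4096 = true := by decide +kernel
theorem ck_849 : chkURange D C 3477504 4096 = true := by decide +kernel
theorem ck_850 : chkURange D C 3481600 4096 = true := by decide +kernel
theorem ck_851 : chkURange D C 3485696 4096 = true := by decide +kernel
theorem chkU_70 (b : ℕ) (h1 : 3440640 ≤ b) (h2 : b < 3489792) : chkU D C b = true := by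
  rcases Nat.lt_or_ge b 3444736 with g0 | g0
  · exact chkURange_spec D C 3440640 4096 ck_840 b (by omega) (by omega)
  rcases Nat.lt_or_ge b 3448832 with g1 | g1
  · exact chkURange_spec D C 3444736 4096 ck_841 b (by omega) (by omega)
  rcases Nat.lt_or_ge b 3452928 with g2 | g2
  · exact chkURange_spec D C 3448832 4096 ck_842 b (by omega) (by omega)
  rcases Nat.lt_or_ge b 3457024 with g3 | g3
  · exact chkURange_spec D C 3452928 4096 ck_843 b (by omega) (by omega)
  rcases Nat.lt_or_ge b 3461120 with g4 | g4
  · exact chkURange_spec D C 3457024 4096 ck_844 b (by omega) (by omega)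
  rcases Nat.lt_or_ge b 3465216 with g5 | g5
  · exact chkURange_spec D C 3461120 4096 ck_845 b (by omega) (by omega)
  rcases Nat.lt_or_ge b 3469312 with g6 | g6
  · exact chkURange_spec D C 3465216 4096 ck_846 b (by omega) (by omega)
  rcases Nat.lt_or_ge b 3473408 with g7 | g7
  · exact chkURange_spec D C 3469312 4096 ck_847 b (by omega) (by omega)
  rcases Nat.lt_or_ge b 3477504 with g8 | g8
  · exact chkURange_spec D C 3473408 4096 ck_848 b (by omega) (by omega)
  rcases Nat.lt_or_ge b 3481600 with g9 | g9
  · exact chkURange_spec D C 3477504 4096 ck_849 b (by omega) (by omega)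
  rcases Nat.lt_or_ge b 3485696 with g10 | g10
  · exact chkURange_spec D C 3481600 4096 ck_850 b (by omega) (by omega)
  exact chkURange_spec D C 3485696 4096 ck_851 b (by omega) (by omega)
end Cfsg.Agent.Lib.Helper4.F24M.U3
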