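import Cfsg.Agent.Lib.Helper4.F24M.U3.Cert
set_option autoImplicit false
set_option maxRecDepth 1000000
set_option Elab.async false
namespace Cfsg.Agent.Lib.Helper4.F24M.U3
open Cfsg.Agent.Lib.Helper4.Sparse
theorem ck_876 : chkURange D C 3588096 4096 = true := by decide +kernel
theorem ck_877 : chkURange D C 3592192 4096 = true := by decide +kernel
theorem ck_878 : chkURange D C 3596288 4096 = true := by decide +kernel
theorem ck_879 : chkURange D C 3600384 4096 = true := by decide +kernel
theorem ck_880 : chkURange D C 3604480 4096 = true := by decide +kernel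
theorem ck_881 : chkURange D C 3608576 4096 = true := by decide +kernel
theorem ck_882 : chkURange D C 3612672 4096 = true := by decide +kernel
theorem ck_883 : chkURange D C 3616768 4096 = true := by decide +kernel
theorem ck_884 : chkURange D C 3620864 4096 = true := by decide +kernel
theorem ck_885 : chkURange D C 3624960 4096 = true := by decide +kernel
theorem ck_886 : chkURange D C 3629056 4096 = true := by decide +kernel
theorem ck_887 : chkURange D C 3633152 4096 = true := by decide +kernel
theorem chkU_73 (b : ℕ) (h1 : 3588096 ≤ b) (h2 : b < 3637248) : chkU D C b = true := by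
  rcases Nat.lt_or_ge b 3592192 with g0 | g0
  · exact chkURange_spec D C 3588096 4096 ck_876 b (by omega) (by omega)
  rcases Nat.lt_or_ge b 3596288 with g1 | g1
  · exact chkURange_spec D C 3592192 4096 ck_877 b (by omega) (by omega)
  rcases Nat.lt_or_ge b 3600384 with g2 | g2
  · exact chkURange_spec D C 3596288 4096 ck_878 b (by omega) (by omega)
  rcases Nat.lt_or_ge b 3604480 with g3 | g3
  · exact chkURange_spec D C 3600384 4096 ck_879 b (by omega) (by omega)
  rcases Nat.lt_or_ge b 3608576 with g4 | g4
  · exact chkURange_spec D C 3604480 4096 ck_880 b (by omega) (by omega)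
  rcases Nat.lt_or_ge b 3612672 with g5 | g5
  · exact chkURange_spec D C 3608576 4096 ck_881 b (by omega) (by omega)
  rcases Nat.lt_or_ge b 3616768 with g6 | g6
  · exact chkURange_spec D C 3612672 4096 ck_882 b (by omega) (by omega)
  rcases Nat.lt_or_ge b 3620864 with g7 | g7
  · exact chkURange_spec D C 3616768 4096 ck_883 b (by omega) (by omega)
  rcases Nat.lt_or_ge b 3624960 with g8 | g8
  · exact chkURange_spec D C 3620864 4096 ck_884 b (by omega) (by omega)
  rcases Nat.lt_or_ge b 3629056 with g9 | g9
  · exact chkURange_spec D C 3624960 4096 ck_885 b (by omega) (by omega)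
  rcases Nat.lt_or_ge b 3633152 with g10 | g10
  · exact chkURange_spec D C 3629056 4096 ck_886 b (by omega) (by omega)
  exact chkURange_spec D C 3633152 4096 ck_887 b (by omega) (by omega)
end Cfsg.Agent.Lib.Helper4.F24M.U3
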