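import Cfsg.Agent.Lib.Helper4.F24M.U3.Cert
set_option autoImplicit false
set_option maxRecDepth 1000000
set_option Elab.async false
namespace Cfsg.Agent.Lib.Helper4.F24M.U3
open Cfsg.Agent.Lib.Helper4.Sparse
theorem ck_888 : chkURange D C 3637248 4096 = true := by decide +kernel
theorem ck_889 : chkURange D C 3641344 4096 = true := by decide +kernel
theorem ck_890 : chkURange D C 3645440 4096 = true := by decide +kernel
theorem ck_891 : chkURange D C 3649536 4096 = true := by decide +kernel
theorem ck_892 : chkURange D C 3653632 4096 = true := by decide +kernel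
theorem ck_893 : chkURange D C 3657728 4096 = true := by decide +kernel
theorem ck_894 : chkURange D C 3661824 4096 = true := by decide +kernel
theorem ck_895 : chkURange D C 3665920 4096 = true := by decide +kernel
theorem ck_896 : chkURange D C 3670016 4096 = true := by decide +kernel
theorem ck_897 : chkURange D C 3674112 4096 = true := by decide +kernel
theorem ck_898 : chkURange D C 3678208 4096 = true := by decide +kernel
theorem ck_899 : chkURange D C 3682304 1009 = true := by decide +kernel
theorem chkU_74 (b : ℕ) (h1 : 3637248 ≤ b) (h2 : b < 3683313) : chkU D C b = true := by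
  rcases Nat.lt_or_ge b 3641344 with g0 | g0
  · exact chkURange_spec D C 3637248 4096 ck_888 b (by omega) (by omega)
  rcases Nat.lt_or_ge b 3645440 with g1 | g1
  · exact chkURange_spec D C 3641344 4096 ck_889 b (by omega) (by omega)
  rcases Nat.lt_or_ge b 3649536 with g2 | g2
  · exact chkURange_spec D C 3645440 4096 ck_890 b (by omega) (by omega)
  rcases Nat.lt_or_ge b 3653632 with g3 | g3
  · exact chkURange_spec D C 3649536 4096 ck_891 b (by omega) (by omega)
  rcases Nat.lt_or_ge b 3657728 with g4 | g4
  · exact chkURange_spec D C 3653632 4096 ck_892 b (by omega) (by omega)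
  rcases Nat.lt_or_ge b 3661824 with g5 | g5
  · exact chkURange_spec D C 3657728 4096 ck_893 b (by omega) (by omega)
  rcases Nat.lt_or_ge b 3665920 with g6 | g6
  · exact chkURange_spec D C 3661824 4096 ck_894 b (by omega) (by omega)
  rcases Nat.lt_or_ge b 3670016 with g7 | g7
  · exact chkURange_spec D C 3665920 4096 ck_895 b (by omega) (by omega)
  rcases Nat.lt_or_ge b 3674112 with g8 | g8
  · exact chkURange_spec D C 3670016 4096 ck_896 b (by omega) (by omega)
  rcases Nat.lt_or_ge b 3678208 with g9 | g9
  · exact chkURange_spec D C 3674112 4096 ck_897 b (by omega) (by omega)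
  rcases Nat.lt_or_ge b 3682304 with g10 | g10
  · exact chkURange_spec D C 3678208 4096 ck_898 b (by omega) (by omega)
  exact chkURange_spec D C 3682304 1009 ck_899 b (by omega) (by omega)
end Cfsg.Agent.Lib.Helper4.F24M.U3
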