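import Cfsg.Agent.Lib.Helper4.F24M.U3.K0
import Cfsg.Agent.Lib.Helper4.F24M.U3.K1
import Cfsg.Agent.Lib.Helper4.F24M.U3.K2
import Cfsg.Agent.Lib.Helper4.F24M.U3.K3
import Cfsg.Agent.Lib.Helper4.F24M.U3.K4
import Cfsg.Agent.Lib.Helper4.F24M.U3.K5
import Cfsg.Agent.Lib.Helper4.F24M.U3.K6
import Cfsg.Agent.Lib.Helper4.F24M.U3.K7
import Cfsg.Agent.Lib.Helper4.F24M.U3.K8
import Cfsg.Agent.Lib.Helper4.F24M.U3.K9
import Cfsg.Agent.Lib.Helper4.F24M.U3.K10
import Cfsg.Agent.Lib.Helper4.F24M.U3.K11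
import Cfsg.Agent.Lib.Helper4.F24M.U3.K12
import Cfsg.Agent.Lib.Helper4.F24M.U3.K13
import Cfsg.Agent.Lib.Helper4.F24M.U3.K14
import Cfsg.Agent.Lib.Helper4.F24M.U3.K15
import Cfsg.Agent.Lib.Helper4.F24M.U3.K16
import Cfsg.Agent.Lib.Helper4.F24M.U3.K17
import Cfsg.Agent.Lib.Helper4.F24M.U3.K18
import Cfsg.Agent.Lib.Helper4.F24M.U3.K19
import Cfsg.Agent.Lib.Helper4.F24M.U3.K20
import Cfsg.Agent.Lib.Helper4.F24M.U3.K21
import Cfsg.Agent.Lib.Helper4.F24M.U3.K22
import Cfsg.Agent.Lib.Helper4.F24M.U3.K23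
import Cfsg.Agent.Lib.Helper4.F24M.U3.K24
import Cfsg.Agent.Lib.Helper4.F24M.U3.K25
import Cfsg.Agent.Lib.Helper4.F24M.U3.K26
import Cfsg.Agent.Lib.Helper4.F24M.U3.K27
import Cfsg.Agent.Lib.Helper4.F24M.U3.K28
import Cfsg.Agent.Lib.Helper4.F24M.U3.K29
import Cfsg.Agent.Lib.Helper4.F24M.U3.K30
import Cfsg.Agent.Lib.Helper4.F24M.U3.K31
import Cfsg.Agent.Lib.Helper4.F24M.U3.K32
import Cfsg.Agent.Lib.Helper4.F24M.U3.K33
import Cfsg.Agent.Lib.Helper4.F24M.U3.K34
import Cfsg.Agent.Lib.Helper4.F24M.U3.K35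
import Cfsg.Agent.Lib.Helper4.F24M.U3.K36
import Cfsg.Agent.Lib.Helper4.F24M.U3.K37
import Cfsg.Agent.Lib.Helper4.F24M.U3.K38
import Cfsg.Agent.Lib.Helper4.F24M.U3.K39
import Cfsg.Agent.Lib.Helper4.F24M.U3.K40
import Cfsg.Agent.Lib.Helper4.F24M.U3.K41
import Cfsg.Agent.Lib.Helper4.F24M.U3.K42
import Cfsg.Agent.Lib.Helper4.F24M.U3.K43
import Cfsg.Agent.Lib.Helper4.F24M.U3.K44
import Cfsg.Agent.Lib.Helper4.F24M.U3.K45
import Cfsg.Agent.Lib.Helper4.F24M.U3.K46
import Cfsg.Agent.Lib.Helper4.F24M.U3.K47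
import Cfsg.Agent.Lib.Helper4.F24M.U3.K48
import Cfsg.Agent.Lib.Helper4.F24M.U3.K49
import Cfsg.Agent.Lib.Helper4.F24M.U3.K50
import Cfsg.Agent.Lib.Helper4.F24M.U3.K51
import Cfsg.Agent.Lib.Helper4.F24M.U3.K52
import Cfsg.Agent.Lib.Helper4.F24M.U3.K53
import Cfsg.Agent.Lib.Helper4.F24M.U3.K54
import Cfsg.Agent.Lib.Helper4.F24M.U3.K55
import Cfsg.Agent.Lib.Helper4.F24M.U3.K56
import Cfsg.Agent.Lib.Helper4.F24M.U3.K57
import Cfsg.Agent.Lib.Helper4.F24M.U3.K58
import Cfsg.Agent.Lib.Helper4.F24M.U3.K59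
import Cfsg.Agent.Lib.Helper4.F24M.U3.K60
import Cfsg.Agent.Lib.Helper4.F24M.U3.K61
import Cfsg.Agent.Lib.Helper4.F24M.U3.K62
import Cfsg.Agent.Lib.Helper4.F24M.U3.K63
import Cfsg.Agent.Lib.Helper4.F24M.U3.K64
import Cfsg.Agent.Lib.Helper4.F24M.U3.K65
import Cfsg.Agent.Lib.Helper4.F24M.U3.K66
import Cfsg.Agent.Lib.Helper4.F24M.U3.K67
import Cfsg.Agent.Lib.Helper4.F24M.U3.K68
import Cfsg.Agent.Lib.Helper4.F24M.U3.K69
import Cfsg.Agent.Lib.Helper4.F24M.U3.K70
import Cfsg.Agent.Lib.Helper4.F24M.U3.K71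
import Cfsg.Agent.Lib.Helper4.F24M.U3.K72
import Cfsg.Agent.Lib.Helper4.F24M.U3.K73
import Cfsg.Agent.Lib.Helper4.F24M.U3.K74
set_option autoImplicit false

/-! # All the unknowns pass the check -/

namespace Cfsg.Agent.Lib.Helper4.F24M.U3
open Cfsg.Agent.Lib.Helper4.Sparse

theorem chkU_all (b : ℕ) (hb : b < 3683313) : chkU D C b = true := by
  rcases Nat.lt_or_ge b 49152 with g0 | g0
  · exact chkU_0 b (by omega) g0
  rcases Nat.lt_or_ge b 98304 with g1 | g1
  · exact chkU_1 b (by omega) g1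
  rcases Nat.lt_or_ge b 147456 with g2 | g2
  · exact chkU_2 b (by omega) g2
  rcases Nat.lt_or_ge b 196608 with g3 | g3
  · exact chkU_3 b (by omega) g3
  rcases Nat.lt_or_ge b 245760 with g4 | g4
  · exact chkU_4 b (by omega) g4
  rcases Nat.lt_or_ge b 294912 with g5 | g5
  · exact chkU_5 b (by omega) g5
  rcases Nat.lt_or_ge b 344064 with g6 | g6
  · exact chkU_6 b (by omega) g6
  rcases Nat.lt_or_ge b 393216 with g7 | g7
  · exact chkU_7 b (by omega) g7
  rcases Nat.lt_or_ge b 442368 with g8 | g8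
  · exact chkU_8 b (by omega) g8
  rcases Nat.lt_or_ge b 491520 with g9 | g9
  · exact chkU_9 b (by omega) g9
  rcases Nat.lt_or_ge b 540672 with g10 | g10
  · exact chkU_10 b (by omega) g10
  rcases Nat.lt_or_ge b 589824 with g11 | g11
  · exact chkU_11 b (by omega) g11
  rcases Nat.lt_or_ge b 638976 with g12 | g12
  · exact chkU_12 b (by omega) g12
  rcases Nat.lt_or_ge b 688128 with g13 | g13
  · exact chkU_13 b (by omega) g13
  rcases Nat.lt_or_ge b 737280 with g14 | g14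
  · exact chkU_14 b (by omega) g14
  rcases Nat.lt_or_ge b 786432 with g15 | g15
  · exact chkU_15 b (by omega) g15
  rcases Nat.lt_or_ge b 835584 with g16 | g16
  · exact chkU_16 b (by omega) g16
  rcases Nat.lt_or_ge b 884736 with g17 | g17
  · exact chkU_17 b (by omega) g17
  rcases Nat.lt_or_ge b 933888 with g18 | g18
  · exact chkU_18 b (by omega) g18
  rcases Nat.lt_or_ge b 983040 with g19 | g19
  · exact chkU_19 b (by omega) g19
  rcases Nat.lt_or_ge b 1032192 with g20 | g20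
  · exact chkU_20 b (by omega) g20
  rcases Nat.lt_or_ge b 1081344 with g21 | g21
  · exact chkU_21 b (by omega) g21
  rcases Nat.lt_or_ge b 1130496 with g22 | g22
  · exact chkU_22 b (by omega) g22
  rcases Nat.lt_or_ge b 1179648 with g23 | g23
  · exact chkU_23 b (by omega) g23
  rcases Nat.lt_or_ge b 1228800 with g24 | g24
  · exact chkU_24 b (by omega) g24
  rcases Nat.lt_or_ge b 1277952 with g25 | g25
  · exact chkU_25 b (by omega) g25
  rcases Nat.lt_or_ge b 1327104 with g26 | g26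
  · exact chkU_26 b (by omega) g26
  rcases Nat.lt_or_ge b 1376256 with g27 | g27
  · exact chkU_27 b (by omega) g27
  rcases Nat.lt_or_ge b 1425408 with g28 | g28
  · exact chkU_28 b (by omega) g28
  rcases Nat.lt_or_ge b 1474560 with g29 | g29
  · exact chkU_29 b (by omega) g29
  rcases Nat.lt_or_ge b 1523712 with g30 | g30
  · exact chkU_30 b (by omega) g30
  rcases Nat.lt_or_ge b 1572864 with g31 | g31
  · exact chkU_31 b (by omega) g31
  rcases Nat.lt_or_ge b 1622016 with g32 | g32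
  · exact chkU_32 b (by omega) g32
  rcases Nat.lt_or_ge b 1671168 with g33 | g33
  · exact chkU_33 b (by omega) g33
  rcases Nat.lt_or_ge b 1720320 with g34 | g34
  · exact chkU_34 b (by omega) g34
  rcases Nat.lt_or_ge b 1769472 with g35 | g35
  · exact chkU_35 b (by omega) g35
  rcases Nat.lt_or_ge b 1818624 with g36 | g36
  · exact chkU_36 b (by omega) g36
  rcases Nat.lt_or_ge b 1867776 with g37 | g37
  · exact chkU_37 b (by omega) g37
  rcases Nat.lt_or_ge b 1916928 with g38 | g38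
  · exact chkU_38 b (by omega) g38
  rcases Nat.lt_or_ge b 1966080 with g39 | g39
  · exact chkU_39 b (by omega) g39
  rcases Nat.lt_or_ge b 2015232 with g40 | g40
  · exact chkU_40 b (by omega) g40
  rcases Nat.lt_or_ge b 2064384 with g41 | g41
  · exact chkU_41 b (by omega) g41
  rcases Nat.lt_or_ge b 2113536 with g42 | g42
  · exact chkU_42 b (by omega) g42
  rcases Nat.lt_or_ge b 2162688 with g43 | g43
  · exact chkU_43 b (by omega) g43
  rcases Nat.lt_or_ge b 2211840 with g44 | g44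
  · exact chkU_44 b (by omega) g44
  rcases Nat.lt_or_ge b 2260992 with g45 | g45
  · exact chkU_45 b (by omega) g45
  rcases Nat.lt_or_ge b 2310144 with g46 | g46
  · exact chkU_46 b (by omega) g46
  rcases Nat.lt_or_ge b 2359296 with g47 | g47
  · exact chkU_47 b (by omega) g47
  rcases Nat.lt_or_ge b 2408448 with g48 | g48
  · exact chkU_48 b (by omega) g48
  rcases Nat.lt_or_ge b 2457600 with g49 | g49
  · exact chkU_49 b (by omega) g49
  rcases Nat.lt_or_ge b 2506752 with g50 | g50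
  · exact chkU_50 b (by omega) g50
  rcases Nat.lt_or_ge b 2555904 with g51 | g51
  · exact chkU_51 b (by omega) g51
  rcases Nat.lt_or_ge b 2605056 with g52 | g52
  · exact chkU_52 b (by omega) g52
  rcases Nat.lt_or_ge b 2654208 with g53 | g53
  · exact chkU_53 b (by omega) g53
  rcases Nat.lt_or_ge b 2703360 with g54 | g54
  · exact chkU_54 b (by omega) g54
  rcases Nat.lt_or_ge b 2752512 with g55 | g55
  · exact chkU_55 b (by omega) g55
  rcases Nat.lt_or_ge b 2801664 with g56 | g56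
  · exact chkU_56 b (by omega) g56
  rcases Nat.lt_or_ge b 2850816 with g57 | g57
  · exact chkU_57 b (by omega) g57
  rcases Nat.lt_or_ge b 2899968 with g58 | g58
  · exact chkU_58 b (by omega) g58
  rcases Nat.lt_or_ge b 2949120 with g59 | g59
  · exact chkU_59 b (by omega) g59
  rcases Nat.lt_or_ge b 2998272 with g60 | g60
  · exact chkU_60 b (by omega) g60
  rcases Nat.lt_or_ge b 3047424 with g61 | g61
  · exact chkU_61 b (by omega) g61
  rcases Nat.lt_or_ge b 3096576 with g62 | g62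
  · exact chkU_62 b (by omega) g62
  rcases Nat.lt_or_ge b 3145728 with g63 | g63
  · exact chkU_63 b (by omega) g63
  rcases Nat.lt_or_ge b 3194880 with g64 | g64
  · exact chkU_64 b (by omega) g64
  rcases Nat.lt_or_ge b 3244032 with g65 | g65
  · exact chkU_65 b (by omega) g65
  rcases Nat.lt_or_ge b 3293184 with g66 | g66
  · exact chkU_66 b (by omega) g66
  rcases Nat.lt_or_ge b 3342336 with g67 | g67
  · exact chkU_67 b (by omega) g67
  rcases Nat.lt_or_ge b 3391488 with g68 | g68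
  · exact chkU_68 b (by omega) g68
  rcases Nat.lt_or_ge b 3440640 with g69 | g69
  · exact chkU_69 b (by omega) g69
  rcases Nat.lt_or_ge b 3489792 with g70 | g70
  · exact chkU_70 b (by omega) g70
  rcases Nat.lt_or_ge b 3538944 with g71 | g71
  · exact chkU_71 b (by omega) g71
  rcases Nat.lt_or_ge b 3588096 with g72 | g72
  · exact chkU_72 b (by omega) g72
  rcases Nat.lt_or_ge b 3637248 with g73 | g73
  · exact chkU_73 b (by omega) g73
  exact chkU_74 b (by omega) hb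

end Cfsg.Agent.Lib.Helper4.F24M.U3
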