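import Cfsg.Agent.Lib.Helper6.TCD.Fi24a.Par
import Cfsg.Agent.Lib.Helper4.Sparse.Tree
import Cfsg.Agent.Lib.Helper4.F24M.U3.ParT
import Cfsg.Agent.Lib.Helper4.F24M.U3.Ent
set_option autoImplicit false

/-! # The sparse certificate U3 (prime 3, modulo 9): the relations (the first 12 normalise the lifts of the letters), the data, the certificate -/

namespace Cfsg.Agent.Lib.Helper4.F24M.U3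

open Cfsg.Agent.Lib.Helper1.StemSA Cfsg.Agent.Lib.Helper4.Sparse

/-- the tables -/
noncomputable def piT : ℕ → ℕ → ℕ := fun i j => Bool.rec (Bool.rec (Bool.rec (Cfsg.Agent.Lib.Helper6.TCD.Fi24a.P0 (Cfsg.Agent.Lib.Helper6.TCD.Fi24a.P1 j)) (Bool.rec (Cfsg.Agent.Lib.Helper6.TCD.Fi24a.P1 (Cfsg.Agent.Lib.Helper6.TCD.Fi24a.P0 j)) (Cfsg.Agent.Lib.Helper6.TCD.Fi24a.P0 (Cfsg.Agent.Lib.Helper6.TCD.Fi24a.P2 j)) (Nat.ble 2 i)) (Nat.ble 1 i)) (Bool.rec (Cfsg.Agent.Lib.Helper6.TCD.Fi24a.P0 (Cfsg.Agent.Lib.Helper6.TCD.Fi24a.P3 j)) (Bool.rec (Cfsg.Agent.Lib.Helper6.TCD.Fi24a.P0 (Cfsg.Agent.Lib.Helper6.TCD.Fi24a.P4 j)) (Cfsg.Agent.Lib.Helper6.TCD.Fi24a.P0 (Cfsg.Agent.Lib.Helper6.TCD.Fi24a.P5 j)) (Nat.ble 5 i)) (Nat.ble 4 i)) (Nat.ble 3 i)) (Bool.rec (Bool.rec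 (Cfsg.Agent.Lib.Helper6.TCD.Fi24a.P0 (Cfsg.Agent.Lib.Helper6.TCD.Fi24a.P6 j)) (Bool.rec (Cfsg.Agent.Lib.Helper6.TCD.Fi24a.P0 (Cfsg.Agent.Lib.Helper6.TCD.Fi24a.P7 j)) (Cfsg.Agent.Lib.Helper6.TCD.Fi24a.P0 (Cfsg.Agent.Lib.Helper6.TCD.Fi24a.P8 j)) (Nat.ble 8 i)) (Nat.ble 7 i)) (Bool.rec (Cfsg.Agent.Lib.Helper6.TCD.Fi24a.P0 (Cfsg.Agent.Lib.Helper6.TCD.Fi24a.P9 j)) (Bool.rec (Cfsg.Agent.Lib.Helper6.TCD.Fi24a.P0 (Cfsg.Agent.Lib.Helper6.TCD.Fi24a.P10 j)) (Cfsg.Agent.Lib.Helper6.TCD.Fi24a.P0 (Cfsg.Agent.Lib.Helper6.TCD.Fi24a.P11 j)) (Nat.ble 11 i)) (Nat.ble 10 i)) (Nat.ble 9 i)) (Nat.ble 6 i)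

/-- the relations -/
def rels : List (List ℕ × List ℕ) :=
  [([2, 2], []),
  ([3, 3], []),
  ([4, 4], []),
  ([5, 5], []),
  ([6, 6], []),
  ([7, 7], []),
  ([8, 8], []),
  ([9, 9], []),
  ([10, 10], []),
  ([11, 11], []),
  ([1, 3, 1, 3], []),
  ([0, 1], []),
  ([0, 0, 0], []),
  ([1, 1, 1], []),
  ([1, 2, 1, 2, 1, 2], []),
  ([0, 2, 0, 2, 0, 2], []),
  ([0, 3, 0, 3], []),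
  ([1, 4, 1, 4], []),
  ([0, 4, 0, 4], []),
  ([1, 5, 1, 5], []),
  ([0, 5, 0, 5], []),
  ([1, 6, 1, 6], []),
  ([0, 6, 0, 6], []),
  ([1, 7, 1, 7], []),
  ([0, 7, 0, 7], []),
  ([1, 8, 1, 8], []),
  ([0, 8, 0, 8], []),
  ([1, 9, 1, 9], []),
  ([0, 9, 0, 9], []),
  ([1, 10, 1, 10], []),
  ([0, 10, 0, 10], []),
  ([1, 11, 1, 11], []),
  ([0, 11, 0, 11], []),
  ([2, 3, 2, 3, 2, 3], []),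
  ([2, 4, 2, 4], []),
  ([2, 5, 2, 5], []),
  ([2, 6, 2, 6], []),
  ([2, 7, 2, 7], []),
  ([2, 8, 2, 8], []),
  ([2, 9, 2, 9], []),
  ([2, 10, 2, 10], []),
  ([2, 11, 2, 11], []),
  ([3, 4, 3, 4, 3, 4], []),
  ([3, 5, 3, 5], []),
  ([3, 6, 3, 6], []),
  ([3, 7, 3, 7], []),
  ([3, 8, 3, 8], []),
  ([3, 9, 3, 9], []),
  ([3, 10, 3, 10], []),
  ([3, 11, 3, 11], []),
  ([4, 5, 4, 5, 4, 5], []),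
  ([4, 6, 4, 6], []),
  ([4, 7, 4, 7], []),
  ([4, 8, 4, 8], []),
  ([4, 9, 4, 9], []),
  ([4, 10, 4, 10], []),
  ([4, 11, 4, 11], []),
  ([5, 6, 5, 6, 5, 6], []),
  ([5, 7, 5, 7], []),
  ([5, 8, 5, 8], []),
  ([5, 9, 5, 9], []),
  ([5, 10, 5, 10, 5, 10], []),
  ([5, 11, 5, 11], []),
  ([6, 7, 6, 7, 6, 7], []),
  ([6, 8, 6, 8], []),
  ([6, 9, 6, 9], []),
  ([6, 10, 6, 10], []),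
  ([6, 11, 6, 11], []),
  ([7, 8, 7, 8, 7, 8], []),
  ([7, 9, 7, 9], []),
  ([7, 10, 7, 10], []),
  ([7, 11, 7, 11], []),
  ([8, 9, 8, 9, 8, 9], []),
  ([8, 10, 8, 10], []),
  ([8, 11, 8, 11], []),
  ([9, 10, 9, 10], []),
  ([9, 11, 9, 11], []),
  ([10, 11, 10, 11, 10, 11], []),
  ([10, 7, 6, 5, 4, 3, 2, 10, 7, 6, 5, 4, 3, 2, 10, 7, 6, 5, 4, 3, 2, 10, 7, 6, 5, 4, 3, 2, 10, 7, 6, 5, 4, 3, 2, 10, 7, 6, 5, 4, 3, 2, 10, 7, 6, 5, 4, 3, 2, 10, 7, 6, 5, 4, 3, 2, 10, 7, 6, 5, 4, 3, 2], []),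
  ([5, 4, 3, 2, 1, 5, 6, 7, 8, 9, 5, 10, 11, 5, 4, 3, 2, 1, 5, 6, 7, 8, 9, 5, 10, 11, 5, 4, 3, 2, 1, 5, 6, 7, 8, 9, 5, 10, 11, 5, 4, 3, 2, 1, 5, 6, 7, 8, 9, 5, 10, 11, 5, 4, 3, 2, 1, 5, 6, 7, 8, 9, 5, 10, 11, 5, 4, 3, 2, 1, 5, 6, 7, 8, 9, 5, 10, 11, 5, 4, 3, 2, 1, 5, 6, 7, 8, 9, 5, 10, 11, 5, 4, 3, 2, 1, 5, 6, 7, 8, 9, 5, 10, 11, 5, 4, 3, 2, 1, 5, 6, 7, 8, 9, 5, 10, 11, 5, 4, 3, 2, 1, 5, 6, 7, 8, 9, 5, 10, 11, 5, 4, 3, 2, 1, 5, 6, 7, 8, 9, 5, 10, 11, 5, 4, 3, 2, 1, 5, 6, 7, 8, 9, 5, 10, 11, 5, 4, 3, 2, 1, 5, 6, 7, 8, 9, 5, 10, 11, 5, 4, 3, 2, 1, 5, 6, 7, 8, 9, 5, 10, 11, 5, 4, 3, 2, 1, 5, 6, 7, 8, 9, 5, 10, 11, 5, 4, 3, 2, 1, 5, 6, 7, 8, 9, 5, 10, 11, 5, 4, 3, 2, 1, 5, 6, 7, 8, 9, 5, 10, 11], []),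
  ([5, 4, 3, 2, 0, 5, 6, 7, 8, 9, 5, 10, 11, 5, 4, 3, 2, 0, 5, 6, 7, 8, 9, 5, 10, 11, 5, 4, 3, 2, 0, 5, 6, 7, 8, 9, 5, 10, 11, 5, 4, 3, 2, 0, 5, 6, 7, 8, 9, 5, 10, 11, 5, 4, 3, 2, 0, 5, 6, 7, 8, 9, 5, 10, 11, 5, 4, 3, 2, 0, 5, 6, 7, 8, 9, 5, 10, 11, 5, 4, 3, 2, 0, 5, 6, 7, 8, 9, 5, 10, 11, 5, 4, 3, 2, 0, 5, 6, 7, 8, 9, 5, 10, 11, 5, 4, 3, 2, 0, 5, 6, 7, 8, 9, 5, 10, 11, 5, 4, 3, 2, 0, 5, 6, 7, 8, 9, 5, 10, 11, 5, 4, 3, 2, 0, 5, 6, 7, 8, 9, 5, 10, 11, 5, 4, 3, 2, 0, 5, 6, 7, 8, 9, 5, 10, 11, 5, 4, 3, 2, 0, 5, 6, 7, 8, 9, 5, 10, 11, 5, 4, 3, 2, 0, 5, 6, 7, 8, 9, 5, 10, 11, 5, 4, 3, 2, 0, 5, 6, 7, 8, 9, 5, 10, 11, 5, 4, 3, 2, 0, 5, 6, 7, 8, 9, 5, 10, 11, 5, 4, 3, 2, 0, 5, 6, 7, 8, 9, 5, 10, 11], [])]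

/-- the data of the labelled action -/
noncomputable def D : SAData := mkD 12 306936 piT parT 4 rels

/-- the certificate -/
noncomputable def C : SCert :=
  { q := 9, T := 3, W := 11, c := 8, eW := 25, rW := 7, ent := ent,
    gs := fun t => List.getD [3500320, 310125, 1228101] t 0, nn := 12 }

end Cfsg.Agent.Lib.Helper4.F24M.U3
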