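import Cfsg.Agent.Lib.Helper4.F24M.U3.Cert
set_option autoImplicit false
set_option maxRecDepth 1000000
set_option Elab.async false
namespace Cfsg.Agent.Lib.Helper4.F24M.U3
open Cfsg.Agent.Lib.Helper4.Sparse
theorem ck_564 : chkURange D C 2310144 4096 = true := by decide +kernel
theorem ck_565 : chkURange D C 2314240 4096 = true := by decide +kernel
theorem ck_566 : chkURange D C 2318336 4096 = true := by decide +kernel
theorem ck_567 : chkURange D C 2322432 4096 = true := by decide +kernel
theorem ck_568 : chkURange D C 2326528 4096 = true := by decide +kernel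
theorem ck_569 : chkURange D C 2330624 4096 = true := by decide +kernel
theorem ck_570 : chkURange D C 2334720 4096 = true := by decide +kernel
theorem ck_571 : chkURange D C 2338816 4096 = true := by decide +kernel
theorem ck_572 : chkURange D C 2342912 4096 = true := by decide +kernel
theorem ck_573 : chkURange D C 2347008 4096 = true := by decide +kernel
theorem ck_574 : chkURange D C 2351104 4096 = true := by decide +kernel
theorem ck_575 : chkURange D C 2355200 4096 = true := by decide +kernel
theorem chkU_47 (b : ℕ) (h1 : 2310144 ≤ b) (h2 : b < 2359296) : chkU D C b = true := by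
  rcases Nat.lt_or_ge b 2314240 with g0 | g0
  · exact chkURange_spec D C 2310144 4096 ck_564 b (by omega) (by omega)
  rcases Nat.lt_or_ge b 2318336 with g1 | g1
  · exact chkURange_spec D C 2314240 4096 ck_565 b (by omega) (by omega)
  rcases Nat.lt_or_ge b 2322432 with g2 | g2
  · exact chkURange_spec D C 2318336 4096 ck_566 b (by omega) (by omega)
  rcases Nat.lt_or_ge b 2326528 with g3 | g3
  · exact chkURange_spec D C 2322432 4096 ck_567 b (by omega) (by omega)
  rcases Nat.lt_or_ge b 2330624 with g4 | g4
  · exact chkURange_spec D C 2326528 4096 ck_568 b (by omega) (by omega)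
  rcases Nat.lt_or_ge b 2334720 with g5 | g5
  · exact chkURange_spec D C 2330624 4096 ck_569 b (by omega) (by omega)
  rcases Nat.lt_or_ge b 2338816 with g6 | g6
  · exact chkURange_spec D C 2334720 4096 ck_570 b (by omega) (by omega)
  rcases Nat.lt_or_ge b 2342912 with g7 | g7
  · exact chkURange_spec D C 2338816 4096 ck_571 b (by omega) (by omega)
  rcases Nat.lt_or_ge b 2347008 with g8 | g8
  · exact chkURange_spec D C 2342912 4096 ck_572 b (by omega) (by omega)
  rcases Nat.lt_or_ge b 2351104 with g9 | g9
  · exact chkURange_spec D C 2347008 4096 ck_573 b (by omega) (by omega)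
  rcases Nat.lt_or_ge b 2355200 with g10 | g10
  · exact chkURange_spec D C 2351104 4096 ck_574 b (by omega) (by omega)
  exact chkURange_spec D C 2355200 4096 ck_575 b (by omega) (by omega)
end Cfsg.Agent.Lib.Helper4.F24M.U3
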