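import Cfsg.Agent.Lib.Helper4.F24M.U3.Cert
set_option autoImplicit false
set_option maxRecDepth 1000000

/-! # The residual relations between the distinguished unknowns -/

namespace Cfsg.Agent.Lib.Helper4.F24M.U3
open Cfsg.Agent.Lib.Helper4.Sparse

theorem res_0 : chkResid D C 12 695 29360128 = true := by decide +kernel
theorem res_1 : chkResid D C 12 8062 12288 = true := by decide +kernel
theorem res_2 : chkResid D C 12 11077 16791552 = true := by decide +kernel
theorem res_3 : chkResid D C 12 124380 4200454 = true := by decide +kernel

/-- the residual relations -/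
def res : List (ℕ × ℕ × ℕ) :=
  [(12, 695, 29360128), (12, 8062, 12288), (12, 11077, 16791552), (12, 124380, 4200454)]

theorem hres : ∀ x ∈ res, chkResid D C x.1 x.2.1 x.2.2 = true := by
  intro x hx
  simp only [res, List.mem_cons, List.mem_nil_iff, or_false] at hx
  rcases hx with rfl | rfl | rfl | rfl
  · exact res_0
  · exact res_1
  · exact res_2
  · exact res_3

/-- the target relations -/
def tgt : ℕ → ℕ := fun i => List.getD [3, 2048, 4194304] i 0

/-- the combinations of the residual relations giving the target relations -/
def comb : ℕ → List ℕ := fun i => List.getD [[3, 3, 3, 3, 3, 2, 2, 2, 0, 0, 0, 0], [2, 2, 2, 2, 0, 0, 0, 0, 0, 0, 0, 0], [0, 0, 0, 0]] i []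

end Cfsg.Agent.Lib.Helper4.F24M.U3
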